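import Cfsg.Agent.SubTw.RegCent
import Cfsg.Agent.Known.E6Graph
import Cfsg.Agent.ChevTw.TwE6
import Cfsg.Agent.KSG.CharDiagGroup

/-!
Three classes of subgroups F₄(2) in ²E₆(2): conjugates of the graph-fixed subgroup over the prime field by
diagonal elements.
-/

set_option autoImplicit false
set_option linter.unusedSectionVars false

namespace Cfsg.Agent.SubTw.E6Two

open Cfsg.Lie Cfsg.Agent.ChevGrp Cfsg.Agent.ChevTw Cfsg.Agent.Known.E6F4 Cfsg.Agent.Known.E6Graph
open Cfsg.Agent.KSG Cfsg.Agent.KSG.Aut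
open scoped MatrixGroups

/-! ### Tables -/

/-- The positive and negative fundamental roots, one in each orbit. -/
def gensR : List ℕ := [56, 46, 42, 39, 15, 25, 29, 32]

theorem gens_tab : (∀ r ∈ gensR, r < chevE6.nroots) ∧
    ∀ i : Fin chevF4.rank, (∃ r ∈ gensR, fold r = chevF4.simple i) ∧
      ∃ r ∈ gensR, fold r = chevF4.neg (chevF4.simple i) := by
  decide +kernel

theorem rho_gens : ρ 56 = 36 ∧ ρ 46 = 46 ∧ ρ 42 = 37 ∧ ρ 39 = 39 ∧ ρ 15 = 35 ∧ ρ 25 = 25 ∧ ρ 29 = 34 ∧
    ρ 32 = 32 := by decide +kernel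

/-- A word of the longest element. -/
def w0 : List (Fin chevE6.rank) := twE6.longSeq.flatMap (twE6.wJ chevE6)

/-- The fundamental roots. -/
def posL : List ℕ := [56, 36, 46, 42, 37, 39]

/-- Their negatives. -/
def negL : List ℕ := [15, 35, 25, 29, 34, 32]

theorem reg_tab : (∀ r ∈ posL, r < chevE6.nroots ∧ chevE6.IsPosRoot (act chevE6 [] r)) ∧
    (∀ i : Fin chevE6.rank, ∃ r ∈ posL, ∀ r' ∈ posL, (act chevE6 [] r' = chevE6.simple i ↔ r' = r)) ∧
    (∀ r ∈ negL, r < chevE6.nroots ∧ chevE6.IsPosRoot (act chevE6 w0 r)) ∧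
    (∀ i : Fin chevE6.rank, ∃ r ∈ negL, ∀ r' ∈ negL, (act chevE6 w0 r' = chevE6.simple i ↔ r' = r)) ∧
    posL.Nodup ∧ negL.Nodup ∧
    ∀ r < chevE6.nroots, chevE6.IsPosRoot r → chevE6.IsNegRoot (act chevE6 w0 r) := by
  decide +kernel

/-- The exponent of the diagonal character: the first coefficient plus twice the last. -/
def expo (r : ℕ) : ℤ := (chevE6.coroot.getD r #[]).getD 0 0 + 2 * (chevE6.coroot.getD r #[]).getD 5 0

theorem expo_tab : (∀ r < chevE6.nroots, expo (chevE6.neg r) = -expo r) ∧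
    (∀ r < chevE6.nroots, ∀ s < chevE6.nroots, ∀ k ∈ chevE6.chainRoot r s 1, expo k = expo r + expo s) := by
  decide +kernel

theorem expo_gens : (∀ r ∈ [46, 25, 39, 32], expo r = 0) ∧
    ∀ rs ∈ [(56, 36), (15, 35), (42, 37), (29, 34)], (3 : ℤ) ∣ expo rs.2 - 2 * expo rs.1 := by
  decide +kernel

/-- The functional on the fundamental roots killing the inner diagonal elements modulo 3. -/
def kill (i : Fin chevE6.rank) : ℤ := [1, 0, 2, 0, 1, 2].getD i.val 0

theorem kill_tab : (∀ j : Fin chevE6.rank, (3 : ℤ) ∣ ∑ i : Fin chevE6.rank, chevE6.cartan j (chevE6.simple i) * kill i) ∧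
    ∑ i : Fin chevE6.rank, expo (chevE6.simple i) * kill i = 5 := by
  decide +kernel

/-! ### F₄ over the prime field inside E₆ -/

local notation "F2" => ZMod 2

theorem X_eq_closure :
    X F2 = Subgroup.closure {g | ∃ r ∈ gensR, ∃ t : F2, g = y F2 r t} := by
  have hS : Rules chevE6 F2 := Chev.rules_of_mem _ (by simp)
  have hS' : Rules chevF4 F2 := Chev.rules_of_mem _ (by simp)
  obtain ⟨len', hR'⟩ := hS'.root
  set X0 := Subgroup.closure {g : GL chevE6.Idx F2 | ∃ r ∈ gensR, ∃ t : F2, g = y F2 r t} with hX0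
  have hle : X0 ≤ X F2 := by
    rw [hX0, Subgroup.closure_le]
    rintro _ ⟨r, hr, t, rfl⟩
    exact y_mem_X (gens_tab.1 r hr) t
  refine le_antisymm (fun g hg => ?_) hle
  let K : Subgroup (GL chevF4.Idx F2) :=
    { carrier := {h | ∃ g0 ∈ X0, Intw g0 h}
      one_mem' := ⟨1, one_mem _, Intw.one⟩
      mul_mem' := by
        rintro a b ⟨ga, ha, ea⟩ ⟨gb, hb, eb⟩
        exact ⟨_, mul_mem ha hb, ea.mul eb⟩
      inv_mem' := by
        rintro a ⟨ga, ha, ea⟩
        exact ⟨_, inv_mem ha, ea.inv⟩ }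
  have hy : ∀ r ∈ gensR, ∀ t : F2, (glSys hS').x (fold r) t ∈ K := fun r hr t =>
    ⟨y F2 r t, Subgroup.subset_closure ⟨r, hr, t, rfl⟩, intw_y hS hS' (gens_tab.1 r hr) t⟩
  have hK : (glSys hS').Gbar ≤ K := by
    refine Chev.Triality.Gbar_le_of_simple hS' hR' K fun i t => ?_
    obtain ⟨⟨r, hr, e⟩, r', hr', e'⟩ := gens_tab.2 i
    exact ⟨e ▸ hy r hr t, e' ▸ hy r' hr' t⟩
  obtain ⟨h, hh, hgh⟩ := exists_intw hS hS' hg
  obtain ⟨g0, hg0, hg0h⟩ := hK (by rwa [← group_eq hS'])
  have e : g0⁻¹ * g = 1 := eq_one_of_intw hS hS' (mul_mem (inv_mem (hle hg0)) hg)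
    (by simpa using hg0h.inv.mul hgh)
  rw [inv_mul_eq_one] at e
  exact e ▸ hg0

theorem X_equiv : Nonempty (↥(X F2) ≃* ↥(chevF4.group F2)) := by
  have hS : Rules chevE6 F2 := Chev.rules_of_mem _ (by simp)
  have hS' : Rules chevF4 F2 := Chev.rules_of_mem _ (by simp)
  have hex : ∀ g : ↥(X F2), ∃ h : ↥(chevF4.group F2), Intw (g : GL chevE6.Idx F2) (h : GL chevF4.Idx F2) := fun g => by
    obtain ⟨h, hh, e⟩ := exists_intw hS hS' g.2
    exact ⟨⟨h, hh⟩, e⟩
  choose f hf using hex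
  let φ : ↥(X F2) →* ↥(chevF4.group F2) := MonoidHom.mk' f fun a b => by
    refine Subtype.ext ?_
    rw [Subgroup.coe_mul]
    exact (hf (a * b)).unique ((hf a).mul (hf b))
  refine ⟨MulEquiv.ofBijective φ ⟨?_, ?_⟩⟩
  · rw [injective_iff_map_eq_one]
    intro g hg
    refine Subtype.ext (eq_one_of_intw hS hS' g.2 ?_)
    have := hf g
    rw [show f g = 1 from hg] at this
    exact this
  · intro h
    obtain ⟨len', hR'⟩ := hS'.root
    let K : Subgroup (GL chevF4.Idx F2) := φ.range.map (chevF4.group F2).subtype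
    have hy : ∀ r ∈ gensR, ∀ t : F2, (glSys hS').x (fold r) t ∈ K := fun r hr t => by
      refine ⟨f ⟨_, y_mem_X (gens_tab.1 r hr) t⟩, ⟨_, rfl⟩, ?_⟩
      exact (hf ⟨_, y_mem_X (gens_tab.1 r hr) t⟩).unique (intw_y hS hS' (gens_tab.1 r hr) t)
    have hK : (glSys hS').Gbar ≤ K := by
      refine Chev.Triality.Gbar_le_of_simple hS' hR' K fun i t => ?_
      obtain ⟨⟨r, hr, e⟩, r', hr', e'⟩ := gens_tab.2 i
      exact ⟨e ▸ hy r hr t, e' ▸ hy r' hr' t⟩
    obtain ⟨h', ⟨g, hg⟩, e⟩ := hK (by rw [← group_eq hS']; exact h.2)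
    exact ⟨g, hg.trans (Subtype.ext e)⟩

/-! ### Over the field with four elements -/

variable {K : Type*} [Field K] [CharP K 2]

/-- The extension of scalars. -/
noncomputable def ext2 (K : Type*) [Field K] [CharP K 2] : GL chevE6.Idx F2 →* GL chevE6.Idx K :=
  Matrix.GeneralLinearGroup.map (n := chevE6.Idx) (ZMod.castHom (dvd_refl 2) K)

/-- The subgroup F₄(2). -/
noncomputable def M0 (K : Type*) [Field K] [CharP K 2] : Subgroup (GL chevE6.Idx K) := (X F2).map (ext2 K)

theorem M0_equiv : Nonempty (↥(M0 K) ≃* ↥(chevF4.group F2)) := by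
  obtain ⟨e⟩ := X_equiv
  exact ⟨(Subgroup.equivMapOfInjective _ _ (glMap_injective chevE6 _)).symm.trans e⟩

theorem ext2_y (r : ℕ) : ext2 K (y F2 r 1) = y K r 1 := by
  have hS : Rules chevE6 F2 := Chev.rules_of_mem _ (by simp)
  have hSK : Rules chevE6 K := Chev.rules_of_mem _ (by simp)
  have hx : ∀ a, ext2 K (xGL chevE6 F2 a 1) = xGL chevE6 K a 1 := fun a => by
    refine Units.ext ?_
    show ((xGL chevE6 F2 a 1 : GL chevE6.Idx F2) : Matrix chevE6.Idx chevE6.Idx F2).map (ZMod.castHom (dvd_refl 2) K) = _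
    rw [val_xGL hS, val_xGL hSK, x_map, map_one]
  unfold y
  split_ifs
  · exact hx r
  · rw [map_mul, hx, hx]

theorem y_mem_M0 {r : ℕ} (hr : r < chevE6.nroots) : y K r 1 ∈ M0 K :=
  ⟨y F2 r 1, y_mem_X hr 1, ext2_y r⟩

variable [Fintype K] (hK : Fintype.card K = 4)

include hK in
theorem M0_le : M0 K ≤ twistedE6 K 2 := by
  have hS : Rules chevE6 F2 := Chev.rules_of_mem _ (by simp)
  have hgen : ∀ w ∈ e6Words K 2, (w.map fun p => xGL chevE6 K p.1 p.2).prod ∈ twistedE6 K 2 :=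
    fun w hw => word_mem_genSubgroup (rulesE6 K) hw
  have hy : ∀ r ∈ gensR, y K r 1 ∈ twistedE6 K 2 := by
    intro r hr
    obtain ⟨a, b, c, d, e, f, g, h⟩ := rho_gens
    simp only [gensR, List.mem_cons, List.not_mem_nil, or_false] at hr
    rcases hr with rfl | rfl | rfl | rfl | rfl | rfl | rfl | rfl <;> unfold y
    · rw [a, if_neg (by decide)]
      simpa using hgen [(56, 1), (36, 1 ^ 2)] (Or.inr ⟨1, (56, 36), by simp [e6p1, e6p6], rfl⟩)
    · rw [b, if_pos rfl]
      simpa using hgen [(46, 1)] (Or.inl ⟨1, one_pow _, 46, by simp [e6p2], rfl⟩)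
    · rw [c, if_neg (by decide)]
      simpa using hgen [(42, 1), (37, 1 ^ 2)] (Or.inr ⟨1, (42, 37), by simp [e6p3, e6p5], rfl⟩)
    · rw [d, if_pos rfl]
      simpa using hgen [(39, 1)] (Or.inl ⟨1, one_pow _, 39, by simp [e6p4], rfl⟩)
    · rw [e, if_neg (by decide)]
      simpa using hgen [(15, 1), (35, 1 ^ 2)] (Or.inr ⟨1, (15, 35), by simp [e6m1, e6m6], rfl⟩)
    · rw [f, if_pos rfl]
      simpa using hgen [(25, 1)] (Or.inl ⟨1, one_pow _, 25, by simp [e6m2], rfl⟩)
    · rw [g, if_neg (by decide)]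
      simpa using hgen [(29, 1), (34, 1 ^ 2)] (Or.inr ⟨1, (29, 34), by simp [e6m3, e6m5], rfl⟩)
    · rw [h, if_pos rfl]
      simpa using hgen [(32, 1)] (Or.inl ⟨1, one_pow _, 32, by simp [e6m4], rfl⟩)
  rw [M0, X_eq_closure, Subgroup.map_le_iff_le_comap, Subgroup.closure_le]
  rintro _ ⟨r, hr, t, rfl⟩
  rw [SetLike.mem_coe, Subgroup.mem_comap]
  have h01 : ∀ t : F2, t = 0 ∨ t = 1 := by decide
  rcases h01 t with rfl | rfl
  · have h1 : y F2 r 0 = 1 := by
      unfold y
      split_ifs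
      · exact (glSys hS).x_zero (gens_tab.1 r hr)
      · rw [show xGL chevE6 F2 r 0 = 1 from (glSys hS).x_zero (gens_tab.1 r hr),
          show xGL chevE6 F2 (ρ r) 0 = 1 from (glSys hS).x_zero (rho_tab r (gens_tab.1 r hr)).1, one_mul]
    rw [h1, map_one]
    exact one_mem _
  · rw [ext2_y]
    exact hy r hr

/-- The diagonal elements. -/
noncomputable def dia (w : Kˣ) (k : ℤ) : GL chevE6.Idx K := charUnit chevE6 fun r => w ^ (k * expo r)

theorem val_dia (w : Kˣ) (k : ℤ) :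
    (dia w k : Matrix chevE6.Idx chevE6.Idx K) = chevE6.charDiag K (fun r => w ^ (k * expo r)) := rfl

theorem word_mem {v : List (ℕ × K)} (hv : v ∈ e6Words K 2) :
    (v.map fun p => xGL chevE6 K p.1 p.2).prod ∈ twistedE6 K 2 :=
  word_mem_genSubgroup (rulesE6 K) hv

theorem isRootChar (w : Kˣ) (k : ℤ) : chevE6.IsRootCharacter fun r => w ^ (k * expo r) := by
  refine ⟨fun r hr => ?_, fun r s u hr hs h => ?_⟩
  · simp only
    rw [expo_tab.1 r hr, mul_neg, zpow_neg]
  · simp only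
    rw [expo_tab.2 r hr s hs u h, mul_add, zpow_add]

theorem dia_add (w : Kˣ) (a b : ℤ) : dia w a * dia w b = dia w (a + b) := by
  refine Units.ext ?_
  rw [Units.val_mul]
  rw [val_dia, val_dia, val_dia, charDiag_mul]
  simp only [← zpow_add, add_mul]

theorem dia_zero (w : Kˣ) : dia w 0 = 1 := by
  refine Units.ext ?_
  rw [val_dia]
  simp only [zero_mul, zpow_zero, Units.val_one, charDiag_one]

theorem dia_inv (w : Kˣ) (a : ℤ) : (dia w a)⁻¹ = dia w (-a) :=
  inv_eq_of_mul_eq_one_right (by rw [dia_add, add_neg_cancel, dia_zero])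

theorem chainOK : chainStepOK chevE6 = true := chainStepOK_of_mem (by simp)

theorem dia_conj (w : Kˣ) (k : ℤ) {r : ℕ} (hr : r < chevE6.nroots) (t : K) :
    dia w k * xGL chevE6 K r t * (dia w k)⁻¹ = xGL chevE6 K r (((w ^ (k * expo r) : Kˣ) : K) * t) :=
  charUnit_conj (rulesE6 K) chainOK (isRootChar w k) hr t

include hK in
theorem unit_cube (u : Kˣ) : u ^ 3 = 1 := by
  classical
  have h := pow_card_eq_one (x := u)
  rwa [Fintype.card_units, hK] at h

theorem zpow_of_dvd {w : Kˣ} (h : w ^ 3 = 1) {a b : ℤ} (hd : (3 : ℤ) ∣ a - b) : w ^ a = w ^ b := by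
  obtain ⟨c, hc⟩ := hd
  rw [show a = b + 3 * c by omega, zpow_add, zpow_mul, show w ^ (3 : ℤ) = w ^ 3 from rfl, h, one_zpow, mul_one]

include hK in
theorem dia_normalises (w : Kˣ) (k : ℤ) {g : GL chevE6.Idx K} (hg : g ∈ twistedE6 K 2) :
    dia w k * g * (dia w k)⁻¹ ∈ twistedE6 K 2 := by
  have hw := unit_cube hK w
  refine Subgroup.closure_induction (p := fun g _ => dia w k * g * (dia w k)⁻¹ ∈ twistedE6 K 2) ?_ ?_ ?_ ?_ hg
  · rintro g ⟨v, hv, hgv⟩
    obtain rfl := eq_word_of_mat (rulesE6 K) hgv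
    rcases hv with ⟨t, ht', r, hr, rfl⟩ | ⟨t, rs, hrs, rfl⟩
    · have hr' : r < chevE6.nroots ∧ r ∈ [46, 25, 39, 32] := by
        simp only [e6p2, e6m2, e6p4, e6m4] at hr
        refine ⟨?_, hr⟩
        simp only [List.mem_cons, List.not_mem_nil, or_false] at hr
        rcases hr with rfl | rfl | rfl | rfl <;> decide
      simp only [List.map_cons, List.map_nil, List.prod_cons, List.prod_nil, mul_one]
      rw [dia_conj w k hr'.1, expo_gens.1 r hr'.2, mul_zero, zpow_zero, Units.val_one, one_mul]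
      have := word_mem (v := [(r, t)]) (Or.inl ⟨t, ht', r, hr, rfl⟩)
      simpa using this
    · have hrs' : rs.1 < chevE6.nroots ∧ rs.2 < chevE6.nroots ∧ rs ∈ [(56, 36), (15, 35), (42, 37), (29, 34)] := by
        simp only [e6p1, e6p6, e6m1, e6m6, e6p3, e6p5, e6m3, e6m5] at hrs
        refine ⟨?_, ?_, hrs⟩ <;>
          simp only [List.mem_cons, List.not_mem_nil, or_false] at hrs <;>
          rcases hrs with rfl | rfl | rfl | rfl <;> decide
      simp only [List.map_cons, List.map_nil, List.prod_cons, List.prod_nil, mul_one]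
      set d := dia w k
      rw [show d * (xGL chevE6 K rs.1 t * xGL chevE6 K rs.2 (t ^ 2)) * d⁻¹ =
        d * xGL chevE6 K rs.1 t * d⁻¹ * (d * xGL chevE6 K rs.2 (t ^ 2) * d⁻¹) by group,
        dia_conj w k hrs'.1, dia_conj w k hrs'.2.1]
      set u : K := ((w ^ (k * expo rs.1) : Kˣ) : K) * t
      have e : ((w ^ (k * expo rs.2) : Kˣ) : K) * t ^ 2 = u ^ 2 := by
        rw [mul_pow, ← Units.val_pow_eq_pow_val, ← zpow_natCast (w ^ (k * expo rs.1)), ← zpow_mul]
        congr 2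
        refine zpow_of_dvd hw ?_
        rw [show k * expo rs.2 - k * expo rs.1 * ((2 : ℕ) : ℤ) = k * (expo rs.2 - 2 * expo rs.1) by push_cast; ring]
        exact (expo_gens.2 rs hrs'.2.2).mul_left k
      rw [e]
      have := word_mem (v := [(rs.1, u), (rs.2, u ^ 2)])
        (Or.inr ⟨u, rs, hrs, rfl⟩)
      simpa using this
  · simp [one_mem]
  · intro a b _ _ ha hb
    simpa [mul_assoc] using mul_mem ha hb
  · intro a _ ha
    simpa [mul_assoc] using inv_mem ha

/-- Squaring the entries. -/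
noncomputable def frob (K : Type*) [Field K] [CharP K 2] : GL chevE6.Idx K →* GL chevE6.Idx K :=
  Matrix.GeneralLinearGroup.map (n := chevE6.Idx) (frobenius K 2)

theorem frob_x {r : ℕ} (t : K) : frob K (xGL chevE6 K r t) = xGL chevE6 K r (t ^ 2) := by
  refine Units.ext ?_
  show ((xGL chevE6 K r t : GL chevE6.Idx K) : Matrix chevE6.Idx chevE6.Idx K).map (frobenius K 2) = _
  rw [val_xGL (rulesE6 K), val_xGL (rulesE6 K), x_map, frobenius_def]

theorem frob_M0 {m : GL chevE6.Idx K} (hm : m ∈ M0 K) : frob K m = m := by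
  obtain ⟨g, -, rfl⟩ := hm
  refine Units.ext ?_
  show (((g : Matrix chevE6.Idx chevE6.Idx F2).map (ZMod.castHom (dvd_refl 2) K))).map (frobenius K 2) = _
  rw [Matrix.map_map, ← RingHom.coe_comp, Subsingleton.elim ((frobenius K 2).comp (ZMod.castHom (dvd_refl 2) K))
    (ZMod.castHom (dvd_refl 2) K)]
  rfl

theorem frob_dia {w : Kˣ} (hw : w ^ 3 = 1) (k : ℤ) : frob K (dia w k) = dia w (-k) := by
  refine Units.ext ?_
  show (dia w k : Matrix chevE6.Idx chevE6.Idx K).map (frobenius K 2) = _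
  rw [val_dia, val_dia]
  rw [ChevalleyDatum.charDiag, ChevalleyDatum.charDiag, Matrix.diagonal_map (map_zero _)]
  congr 1
  funext a
  rcases a with a | a
  · exact map_one _
  · simp only [Function.comp_apply, Sum.elim_inr, frobenius_def]
    rw [← Units.val_pow_eq_pow_val, ← zpow_natCast (w ^ (k * expo a)) 2, ← zpow_mul]
    congr 1
    exact zpow_of_dvd hw ⟨k * expo a, by push_cast; ring⟩

include hK in
theorem frob_mem {g : GL chevE6.Idx K} (hg : g ∈ twistedE6 K 2) : frob K g ∈ twistedE6 K 2 := by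
  refine Subgroup.closure_induction (p := fun g _ => frob K g ∈ twistedE6 K 2) ?_ ?_ ?_ ?_ hg
  · rintro g ⟨v, hv, hgv⟩
    obtain rfl := eq_word_of_mat (rulesE6 K) hgv
    rcases hv with ⟨t, ht', r, hr, rfl⟩ | ⟨t, rs, hrs, rfl⟩
    · simp only [List.map_cons, List.map_nil, List.prod_cons, List.prod_nil, mul_one, frob_x, ht']
      simpa using word_mem (v := [(r, t)]) (Or.inl ⟨t, ht', r, hr, rfl⟩)
    · simp only [List.map_cons, List.map_nil, List.prod_cons, List.prod_nil, mul_one, map_mul, frob_x]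
      simpa using word_mem (v := [(rs.1, t ^ 2), (rs.2, (t ^ 2) ^ 2)])
        (Or.inr ⟨t ^ 2, rs, hrs, rfl⟩)
  · simp [one_mem]
  · intro a b _ _ ha hb
    rw [map_mul]
    exact mul_mem ha hb
  · intro a _ ha
    rw [map_inv]
    exact inv_mem ha

/-- Fundamental coordinates of a product of root elements. -/
theorem coord_prod {len : ℕ → ℕ} (hR : RootTable chevE6 len) (i : Fin chevE6.rank) (f : ℕ → ℕ) (a : ℕ → K) :
    ∀ L : List ℕ, (∀ r ∈ L, chevE6.IsPosRoot (f r)) →
      (L.map fun r => (glSys (rulesE6 K)).x (f r) (a r)).prod ∈ (glSys (rulesE6 K)).Ubar ∧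
      (glSys (rulesE6 K)).simpleCoord hR i (L.map fun r => (glSys (rulesE6 K)).x (f r) (a r)).prod =
        (L.map fun r => if f r = chevE6.simple i then a r else 0).sum
  | [], _ => ⟨one_mem _, by simp [Sys.simpleCoord_one]⟩
  | r :: L, h => by
    obtain ⟨h1, h2⟩ := coord_prod hR i f a L fun s hs => h s (List.mem_cons_of_mem _ hs)
    have hx : (glSys (rulesE6 K)).x (f r) (a r) ∈ (glSys (rulesE6 K)).Ubar :=
      (glSys (rulesE6 K)).x_mem_US (T := posSet chevE6) (h r List.mem_cons_self) _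
    simp only [List.map_cons, List.prod_cons, List.sum_cons]
    refine ⟨mul_mem hx h1, ?_⟩
    rw [(glSys (rulesE6 K)).simpleCoord_mul hR i hx h1, h2,
      (glSys (rulesE6 K)).simpleCoord_x hR i (h r List.mem_cons_self)]

theorem regPos_prod {len : ℕ → ℕ} (hR : RootTable chevE6 len) (w : List (Fin chevE6.rank)) (L : List ℕ)
    (a : ℕ → K) (ha : ∀ r ∈ L, a r ≠ 0) (hnd : L.Nodup) (hpos : ∀ r ∈ L, chevE6.IsPosRoot (act chevE6 w r))
    (hone : ∀ i : Fin chevE6.rank, ∃ r ∈ L, ∀ r' ∈ L, (act chevE6 w r' = chevE6.simple i ↔ r' = r)) :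
    RegPos (rulesE6 K) hR (L.map fun r => (glSys (rulesE6 K)).x (act chevE6 w r) (a r)).prod := by
  refine ⟨(coord_prod hR ⟨0, by decide⟩ _ a L hpos).1, fun i => ?_⟩
  obtain ⟨r, hr, hiff⟩ := hone i
  rw [(coord_prod hR i _ a L hpos).2]
  have e : (L.map fun r' => if act chevE6 w r' = chevE6.simple i then a r' else 0).sum = a r := by
    rw [List.map_congr_left fun r' hr' => if_congr (hiff r' hr') rfl rfl, ← List.sum_toFinset _ hnd,
      Finset.sum_ite_eq', if_pos (List.mem_toFinset.2 hr)]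
  rw [e]
  exact ha r hr

include hK in
theorem centralizer_trivial {χ : ℕ → Kˣ} (hχ : chevE6.IsRootCharacter χ) {g : GL chevE6.Idx K}
    (hg : g ∈ chevE6.group K) (hc : ∀ m ∈ M0 K, Commute (g * charUnit chevE6 χ) m) :
    g * charUnit chevE6 χ = 1 := by
  obtain ⟨len, hR⟩ := (rulesE6 K).root
  set S := glSys (rulesE6 K)
  obtain ⟨p1, p2, n1, n2, p3, n3, hlong⟩ := reg_tab
  have hw0 : invSet chevE6 w0 = posSet chevE6 :=
    Set.ext fun r => ⟨fun h => h.1, fun h => ⟨h, hlong r h.1 h⟩⟩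
  obtain ⟨a, ha, hna⟩ := S.conjP_nW (rulesE6 K) hR w0
  obtain ⟨e1, e2, e3, e4, e5, e6, e7, e8⟩ := rho_gens
  set x : GL chevE6.Idx K := (posL.map fun r => S.x (act chevE6 [] r) 1).prod with hxdef
  set x' : GL chevE6.Idx K := (negL.map fun r => S.x r 1).prod with hxdef'
  have hym : ∀ r, r < chevE6.nroots → y K r 1 ∈ M0 K := fun r hr => y_mem_M0 hr
  have hxm : x ∈ M0 K := by
    have e : x = y K 56 1 * (y K 46 1 * (y K 42 1 * y K 39 1)) := by
      simp only [hxdef, posL, act_nil, List.map_cons, List.map_nil, List.prod_cons, List.prod_nil, mul_one]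
      unfold y
      rw [e1, e2, e3, e4, if_neg (by decide), if_pos rfl, if_neg (by decide), if_pos rfl]
      simp only [mul_assoc]
      rfl
    rw [e]
    exact mul_mem (hym 56 (by decide)) (mul_mem (hym 46 (by decide)) (mul_mem (hym 42 (by decide)) (hym 39 (by decide))))
  have hxm' : x' ∈ M0 K := by
    have e : x' = y K 15 1 * (y K 25 1 * (y K 29 1 * y K 32 1)) := by
      simp only [hxdef', negL, List.map_cons, List.map_nil, List.prod_cons, List.prod_nil, mul_one]
      unfold y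
      rw [e5, e6, e7, e8, if_neg (by decide), if_pos rfl, if_neg (by decide), if_pos rfl]
      simp only [mul_assoc]
      rfl
    rw [e]
    exact mul_mem (hym 15 (by decide)) (mul_mem (hym 25 (by decide)) (mul_mem (hym 29 (by decide)) (hym 32 (by decide))))
  have hnx : S.nW w0 * x' * (S.nW w0)⁻¹ = (negL.map fun r => S.x (act chevE6 w0 r) (a r)).prod := by
    have key : ∀ L : List ℕ, (∀ r ∈ L, r < chevE6.nroots) →
        S.nW w0 * (L.map fun r => S.x r 1).prod * (S.nW w0)⁻¹ =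
          (L.map fun r => S.x (act chevE6 w0 r) (a r)).prod := by
      intro L
      induction L with
      | nil => simp
      | cons r L ih =>
        intro h
        simp only [List.map_cons, List.prod_cons]
        rw [← ih fun s hs => h s (List.mem_cons_of_mem _ hs)]
        have := hna r (h r List.mem_cons_self) 1
        rw [mul_one] at this
        rw [← this]
        group
    exact key negL fun r hr => (n1 r hr).1
  refine eq_one_of_commute (rulesE6 K) hR chainOK hχ ((group_eq (rulesE6 K)).le hg) hw0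
    (regPos_prod hR [] posL (fun _ => 1) (fun _ _ => one_ne_zero) p3 (fun r hr => (p1 r hr).2) p2)
    ?_ (hc x hxm) (hc x' hxm')
  rw [hnx]
  exact regPos_prod hR w0 negL a (fun r hr => right_ne_zero_of_mul_eq_one (ha r (n1 r hr).1)) n3
    (fun r hr => (n1 r hr).2) n2

include hK in
theorem dia_not_mem {w : Kˣ} (hw : w ≠ 1) {k : ℤ} (h : dia w k ∈ chevE6.group K) : (3 : ℤ) ∣ k := by
  obtain ⟨len, hR⟩ := (rulesE6 K).root
  set S := glSys (rulesE6 K)
  have hd := mem_diagonal_of_charDiag (rulesE6 K) chainOK (isRootChar w k) h rfl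
  rw [diagonalSubgroup_eq (rulesE6 K) hR] at hd
  have hM : S.HMul := glSys_HMul (rulesE6 K) hR
  rw [← S.tau_range (rulesE6 K) hR hM] at hd
  obtain ⟨c, hc⟩ := hd
  have hval : ∀ i : Fin chevE6.rank,
      ∏ j : Fin chevE6.rank, c j ^ chevE6.cartan j (chevE6.simple i) = w ^ (k * expo (chevE6.simple i)) := by
    intro i
    have e := S.mat_tau (rulesE6 K) hR hM c
    rw [hc] at e
    have e2 := congrFun (congrFun e (Sum.inr ⟨_, hR.simple_lt i i.2⟩)) (Sum.inr ⟨_, hR.simple_lt i i.2⟩)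
    rw [Matrix.diagonal_apply_eq, Sum.elim_inr] at e2
    refine Units.ext (e2.symm.trans ?_)
    rw [glSys_mat, val_dia, ChevalleyDatum.charDiag, Matrix.diagonal_apply_eq, Sum.elim_inr]
  have h1 : ∏ i : Fin chevE6.rank, (∏ j : Fin chevE6.rank, c j ^ chevE6.cartan j (chevE6.simple i)) ^ kill i = 1 := by
    simp only [← Finset.prod_zpow, ← zpow_mul]
    rw [Finset.prod_comm]
    refine Finset.prod_eq_one fun j _ => ?_
    have hsum : ∀ (u : Kˣ) (s : Finset (Fin chevE6.rank)) (f : Fin chevE6.rank → ℤ),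
        ∏ i ∈ s, u ^ f i = u ^ ∑ i ∈ s, f i := by
      intro u s f
      induction s using Finset.cons_induction with
      | empty => simp
      | cons i s hi ih => rw [Finset.prod_cons, Finset.sum_cons, ih, zpow_add]
    rw [hsum, zpow_of_dvd (unit_cube hK _) (b := 0) (by rw [sub_zero]; exact kill_tab.1 j), zpow_zero]
  rw [Finset.prod_congr rfl fun i _ => by rw [hval i]] at h1
  have h2 : w ^ (k * 5) = 1 := by
    rw [← h1, ← kill_tab.2, Finset.mul_sum]
    induction (Finset.univ : Finset (Fin chevE6.rank)) using Finset.cons_induction with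
    | empty => simp
    | cons i s hi ih => rw [Finset.sum_cons, Finset.prod_cons, zpow_add, ih, ← zpow_mul, mul_assoc]
  have h3 : orderOf w = 3 := orderOf_eq_prime (unit_cube hK w) hw
  rw [← orderOf_dvd_iff_zpow_eq_one, h3] at h2
  omega

include hK in
/-- The three classes. -/
theorem three_classes :
    ∃ H : Fin 3 → Subgroup (twistedE6 K 2),
      (∀ i, Nonempty ((H i) ≃* chevF4.group F2)) ∧
      (∀ i j, i ≠ j → ∀ g : (twistedE6 K 2), (H i).map (MulAut.conj g).toMonoidHom ≠ H j) := by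
  classical
  obtain ⟨w, hw⟩ : ∃ w : Kˣ, w ≠ 1 := by
    have h1 : 1 < Fintype.card Kˣ := by rw [Fintype.card_units, hK]; norm_num
    exact Fintype.exists_ne_of_one_lt_card h1 1
  have hw3 := unit_cube hK w
  have hle : ∀ k : ℤ, (M0 K).map (MulAut.conj (dia w k)).toMonoidHom ≤ twistedE6 K 2 := by
    rintro k _ ⟨m, hm, rfl⟩
    exact dia_normalises hK w k (M0_le hK hm)
  refine ⟨fun i => ((M0 K).map (MulAut.conj (dia w (i : ℕ))).toMonoidHom).subgroupOf (twistedE6 K 2), fun i => ?_,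
    fun i j hij g hg => hij ?_⟩
  · obtain ⟨e⟩ := M0_equiv (K := K)
    exact ⟨((Subgroup.subgroupOfEquivOfLe (hle _)).trans
      ((MulAut.conj (dia w (i : ℕ))).subgroupMap (M0 K)).symm).trans e⟩
  set x : GL chevE6.Idx K := (dia w (j : ℕ))⁻¹ * (g : GL chevE6.Idx K) * dia w (i : ℕ) with hx
  have hxm : ∀ m ∈ M0 K, x * m * x⁻¹ ∈ M0 K := by
    intro m hm
    have hmem : (⟨_, hle (i : ℕ) ⟨m, hm, rfl⟩⟩ : ↥(twistedE6 K 2)) ∈
        ((M0 K).map (MulAut.conj (dia w (i : ℕ))).toMonoidHom).subgroupOf (twistedE6 K 2) := ⟨m, hm, rfl⟩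
    have h2 := (hg.le ⟨_, hmem, rfl⟩ : _)
    obtain ⟨m', hm', e⟩ := h2
    have e' : dia w (j : ℕ) * m' * (dia w (j : ℕ))⁻¹ =
        (g : GL chevE6.Idx K) * (dia w (i : ℕ) * m * (dia w (i : ℕ))⁻¹) * (g : GL chevE6.Idx K)⁻¹ := e
    have e'' : x * m * x⁻¹ = m' := by
      calc x * m * x⁻¹ = (dia w (j : ℕ))⁻¹ * ((g : GL chevE6.Idx K) * (dia w (i : ℕ) * m * (dia w (i : ℕ))⁻¹) *
            (g : GL chevE6.Idx K)⁻¹) * dia w (j : ℕ) := by rw [hx]; group
        _ = m' := by rw [← e']; group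
    rw [e'']
    exact hm'
  have hcomm : ∀ m ∈ M0 K, Commute (x⁻¹ * frob K x) m := by
    intro m hm
    have h := frob_M0 (hxm m hm)
    rw [map_mul, map_mul, map_inv, frob_M0 hm] at h
    show x⁻¹ * frob K x * m = m * (x⁻¹ * frob K x)
    calc x⁻¹ * frob K x * m = x⁻¹ * (frob K x * m * (frob K x)⁻¹) * frob K x := by group
      _ = _ := by rw [h]; group
  set a : ℤ := ((i : ℕ) : ℤ)
  set b : ℤ := ((j : ℕ) : ℤ)
  set g' : GL chevE6.Idx K := (g : GL chevE6.Idx K)
  have hc : x⁻¹ * frob K x = (dia w (-a) * g'⁻¹ * (dia w (-a))⁻¹ *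
      (dia w (2 * b - a) * frob K g' * (dia w (2 * b - a))⁻¹)) * dia w (2 * b - 2 * a) := by
    have h1 : dia w a * dia w (2 * b - a) = dia w b * dia w b := by
      rw [dia_add, dia_add]
      congr 1
      omega
    have h2 : dia w (-(2 * b - a)) * dia w (2 * b - 2 * a) = dia w (-a) := by
      rw [dia_add]
      congr 1
      omega
    rw [hx, map_mul, map_mul, map_inv, frob_dia hw3, frob_dia hw3, dia_inv w (-b), neg_neg,
      dia_inv w (-a), neg_neg, dia_inv w (2 * b - a)]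
    calc ((dia w b)⁻¹ * g' * dia w a)⁻¹ * (dia w b * frob K g' * dia w (-a))
        = (dia w a)⁻¹ * g'⁻¹ * (dia w b * dia w b) * frob K g' * dia w (-a) := by group
      _ = dia w (-a) * g'⁻¹ * (dia w a * dia w (2 * b - a)) * frob K g' *
          (dia w (-(2 * b - a)) * dia w (2 * b - 2 * a)) := by rw [h1, h2, dia_inv]
      _ = _ := by group
  have hgrp : twistedE6 K 2 ≤ chevE6.group K := by
    have := (grpE6 (K := K) (q := 2) Nat.prime_two.isPrimePow (by rw [hK]; rfl)).Tw_le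
    rwa [← group_eq (rulesE6 K)] at this
  have hmem : dia w (-a) * g'⁻¹ * (dia w (-a))⁻¹ * (dia w (2 * b - a) * frob K g' * (dia w (2 * b - a))⁻¹) ∈
      chevE6.group K :=
    hgrp (mul_mem (dia_normalises hK w _ (inv_mem g.2)) (dia_normalises hK w _ (frob_mem hK g.2)))
  have h1 := centralizer_trivial hK (isRootChar w (2 * b - 2 * a)) hmem (fun m hm => by
    have := hcomm m hm
    rwa [hc] at this)
  have hd : dia w (2 * b - 2 * a) ∈ chevE6.group K := by
    have e : dia w (2 * b - 2 * a) = (dia w (-a) * g'⁻¹ * (dia w (-a))⁻¹ *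
        (dia w (2 * b - a) * frob K g' * (dia w (2 * b - a))⁻¹))⁻¹ := (inv_eq_of_mul_eq_one_right h1).symm
    rw [e]
    exact inv_mem hmem
  have h3 := dia_not_mem hK hw hd
  have hi := i.2
  have hj := j.2
  exact Fin.ext (by omega)

end Cfsg.Agent.SubTw.E6Two
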