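import Cfsg.Agent.Known.SubG.Frame
import Cfsg.Agent.ChevGrp.WeaklyClosed
import Cfsg.Agent.ChevGrp.Cells
import Cfsg.Agent.Chev.Triality.Cols
import Cfsg.Agent.KSG.AutDiag

/-!
An element of the diagonally extended Chevalley group commuting with regular unipotent elements of both
signs and fixed on the fundamental coordinates is trivial.
-/

set_option autoImplicit false
set_option linter.unusedSectionVars false

namespace Cfsg.Agent.SubTw

open Cfsg.Lie Cfsg.Agent.ChevGrp Cfsg.Agent.Known.SubG Cfsg.Agent.KSG Cfsg.Agent.KSG.Aut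
open scoped MatrixGroups

variable {D : ChevalleyDatum} {F : Type*} [Field F] {len : ℕ → ℕ} (hS : Rules D F)

/-- All fundamental coordinates are non-zero. -/
def RegPos (hR : RootTable D len) (y : GL D.Idx F) : Prop :=
  y ∈ (glSys hS).Ubar ∧ ∀ i : Fin D.rank, (glSys hS).simpleCoord hR i y ≠ 0

include hS in
theorem mon_Nbar (hR : RootTable D len) {n : GL D.Idx F} (hn : n ∈ (glSys hS).Nbar) :
    ∃ w : List (Fin D.rank), Mon hS n w := by
  obtain ⟨h, hh, w, -, rfl⟩ := (glSys hS).mem_Nbar hS hR hn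
  exact ⟨_, (mon_Hbar hS hR hh).mul hS hR (mon_nW hS hR w)⟩

/-- A conjugation sending a regular positive element into `U` lies in `B`. -/
theorem mem_Bbar_of_regular (hR : RootTable D len) {g y : GL D.Idx F} (hg : g ∈ (glSys hS).Gbar)
    (hy : RegPos hS hR y) (he : g * y * g⁻¹ ∈ (glSys hS).Ubar) : g ∈ (glSys hS).Bbar := by
  set S := glSys hS
  obtain ⟨b, hb, w, hw, v, hv, rfl⟩ := S.mem_NF hS hR hg
  obtain ⟨u, hu, h, hh, rfl⟩ := (S.mem_Bbar hS hR).1 hb
  have hvU : v ∈ S.Ubar := S.US_mono (fun r h => h.1) hv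
  have hzU : v * y * v⁻¹ ∈ S.Ubar := mul_mem (mul_mem hvU hy.1) (inv_mem hvU)
  have hzc : ∀ i, S.simpleCoord hR i (v * y * v⁻¹) ≠ 0 := fun i => by
    rw [S.simpleCoord_mul hR i (mul_mem hvU hy.1) (inv_mem hvU), S.simpleCoord_mul hR i hvU hy.1,
      S.simpleCoord_inv hR i hvU, add_comm (S.simpleCoord hR i v), add_neg_cancel_right]
    exact hy.2 i
  set n := h * S.nW w with hn
  have hnN : n ∈ S.Nbar := mul_mem (S.Hbar_le_Nbar hh) (S.nW_mem_Nbar w)
  have hmid : n * (v * y * v⁻¹) * n⁻¹ ∈ S.Ubar := by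
    have h' := mul_mem (mul_mem (inv_mem hu) he) hu
    convert h' using 1
    rw [hn]
    group
  -- no fundamental root is sent to a negative one
  have hpos : ∀ i : Fin D.rank, D.IsPosRoot (act D w (D.simple i)) := by
    intro i
    have hp := hR.simple_lt i i.2
    by_contra hneg
    have hneg' := hR.neg_of_not_pos (hR.act_lt w hp) hneg
    obtain ⟨w', hm'⟩ := mon_Nbar hS hR (inv_mem hnN)
    obtain ⟨a', la', -, -, hcol', hz'⟩ := hm'
    obtain ⟨a, la, -, -, hcol, hz⟩ := (mon_Hbar hS hR hh).mul hS hR (mon_nW hS hR w)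
    set s : Fin D.nroots := ⟨D.neg (D.simple i), hR.neg_lt _ hp⟩
    set β : Fin D.nroots := ⟨act D ([] ++ w) s, la s⟩
    have hβ : (β : ℕ) = D.neg (act D w (D.simple i)) := by
      show act D ([] ++ w) (D.neg (D.simple i)) = _
      rw [List.nil_append, hR.act_neg w hp]
    have hβpos : 0 < ht D len β := by
      rw [hβ, hR.ht_neg (hR.act_lt w hp)]
      have := (hR.neg_iff_ht (hR.act_lt w hp)).1 hneg'
      omega
    refine hzc i ?_
    have e : v * y * v⁻¹ = n⁻¹ * (n * (v * y * v⁻¹) * n⁻¹) * n := by group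
    unfold Sys.simpleCoord
    rw [glSys_mat, e, Units.val_mul]
    refine (Matrix.mul_apply).trans (Finset.sum_eq_zero fun c _ => ?_)
    by_cases hc : c = Sum.inr β
    · subst hc
      refine mul_eq_zero_of_left ?_ _
      rw [Units.val_mul]
      refine (Matrix.mul_apply).trans (Finset.sum_eq_zero fun a₀ _ => ?_)
      rcases a₀ with j | z
      · refine mul_eq_zero_of_right _ ?_
        by_contra hne
        have h1 := S.raise_Ubar hR hmid (Sum.inl j) (Sum.inr β)
        rw [glSys_mat, Matrix.one_apply_ne (by simp)] at h1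
        have h2 := h1 hne
        simp only [degI, Sum.elim_inl, Sum.elim_inr] at h2
        change (0 : ℤ) < ht D len β at hβpos
        simp only [ht] at hβpos
        omega
      · refine mul_eq_zero_of_left ?_ _
        rw [hcol' (Sum.inl i) z, if_neg (by simp)]
    · refine mul_eq_zero_of_right _ ?_
      rw [hn, hcol c s, if_neg hc]
  have hall : invCount D w = 0 := by
    rw [invCount_eq, Finset.card_eq_zero, Finset.eq_empty_iff_forall_notMem]
    intro r hr
    rw [mem_invFin] at hr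
    exact hR.not_pos_and_neg (hR.pos_of_simple_pos Set.univ (fun i _ => hpos i)
      ⟨hr.1, hr.1.1, fun j _ hj => absurd trivial hj⟩) hr.2
  have hw0 : w = [] := List.length_eq_zero_iff.1 (hw.symm.trans hall)
  subst hw0
  rw [Sys.nW_nil, mul_one]
  exact mul_mem hb (S.Ubar_le_Bbar hvU)

/-- Diagonal with ones on the fundamental coordinates. -/
def IsDiagOne (t : GL D.Idx F) : Prop :=
  ∃ f : Fin D.nroots → F, (t : Matrix D.Idx D.Idx F) = Matrix.diagonal (Sum.elim (fun _ => (1 : F)) f)

theorem isDiagOne_charUnit (χ : ℕ → Fˣ) : IsDiagOne (charUnit D χ : GL D.Idx F) := ⟨fun s => (χ s : F), rfl⟩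

theorem isDiagOne_mul {a b : GL D.Idx F} (ha : IsDiagOne a) (hb : IsDiagOne b) : IsDiagOne (a * b) := by
  obtain ⟨f, hf⟩ := ha
  obtain ⟨g, hg⟩ := hb
  refine ⟨fun s => f s * g s, ?_⟩
  rw [Units.val_mul, hf, hg, Matrix.diagonal_mul_diagonal]
  congr 1
  funext c
  rcases c with c | c <;> simp

theorem isDiagOne_Hbar (hR : RootTable D len) {h : GL D.Idx F} (hh : h ∈ (glSys hS).Hbar) : IsDiagOne h := by
  obtain ⟨d, -, e⟩ := (glSys hS).mat_Hbar hS hR hh
  exact ⟨d, by rw [← glSys_mat hS, e]⟩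

include hS in
theorem isDiagOne_conj (hR : RootTable D len) {n t : GL D.Idx F} {w : List (Fin D.rank)} (hn : Mon hS n w)
    (ht' : IsDiagOne t) : IsDiagOne (n * t * n⁻¹) := by
  obtain ⟨a, la, -, -, hcol, hz⟩ := hn
  obtain ⟨f, hf⟩ := ht'
  let f' : Fin D.nroots → F := fun z => f ⟨act D w.reverse z, hR.act_lt _ z.2⟩
  refine ⟨f', ?_⟩
  have e : (n : Matrix D.Idx D.Idx F) * (t : Matrix D.Idx D.Idx F) =
      Matrix.diagonal (Sum.elim (fun _ => (1 : F)) f') * (n : Matrix D.Idx D.Idx F) := by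
    ext b c
    rw [hf, Matrix.mul_diagonal, Matrix.diagonal_mul]
    rcases c with j | s
    · rcases b with i | z
      · simp
      · simp [hz]
    · rw [hcol]
      split_ifs with hb
      · subst hb
        simp only [Sum.elim_inr, f']
        rw [mul_comm]
        congr 2
        exact Fin.ext (hR.act_reverse_act w s.2).symm
      · simp
  rw [Units.val_mul, Units.val_mul, e, Matrix.mul_assoc, Units.mul_inv, Matrix.mul_one]

/-- Commuting with a regular positive element forces a triangular shape. -/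
theorem triangular_of_commute (hR : RootTable D len) (hD : chainStepOK D = true) {χ : ℕ → Fˣ}
    (hχ : D.IsRootCharacter χ) {g x : GL D.Idx F} (hg : g ∈ (glSys hS).Gbar) (hx : RegPos hS hR x)
    (he : Commute (g * charUnit D χ) x) :
    ∃ u ∈ (glSys hS).Ubar, ∃ h ∈ (glSys hS).Hbar, g = u * h := by
  set S := glSys hS
  set d := charUnit D χ
  have hd : ∀ s < D.nroots, ∀ t : F, d * S.x s t * d⁻¹ = S.x s ((χ s : F) * t) := fun s hs t =>
    charUnit_conj hS hD hχ hs t
  have hdx : RegPos hS hR (d * x * d⁻¹) := by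
    have hmem : d * x * d⁻¹ ∈ S.Ubar := by
      refine Subgroup.closure_induction (p := fun z _ => d * z * d⁻¹ ∈ S.Ubar) ?_ ?_ ?_ ?_ hx.1
      · rintro _ ⟨r, hr, t, rfl⟩
        rw [hd r hr.1]
        exact S.x_mem_US (T := posSet D) hr _
      · simp [one_mem]
      · intro a b _ _ ha hb
        simpa [mul_assoc] using mul_mem ha hb
      · intro a _ ha
        simpa [mul_assoc] using inv_mem ha
    refine ⟨hmem, fun i => ?_⟩
    rw [(S.simpleCoord_conj hR i hd hx.1).2]
    exact mul_ne_zero (Units.ne_zero _) (hx.2 i)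
  have e : g * (d * x * d⁻¹) * g⁻¹ = x := by
    calc g * (d * x * d⁻¹) * g⁻¹ = (g * d) * x * (g * d)⁻¹ := by group
      _ = x := by rw [he.eq, mul_inv_cancel_right]
  have hB := mem_Bbar_of_regular hS hR hg hdx (by rw [e]; exact hx.1)
  obtain ⟨u, hu, h, hh, rfl⟩ := (S.mem_Bbar hS hR).1 hB
  exact ⟨u, hu, h, hh, rfl⟩

include hS in
theorem x_param_inj (hR : RootTable D len) {r : ℕ} (hr : r < D.nroots) {t u : F}
    (h : (glSys hS).x r t = (glSys hS).x r u) : t = u := by
  obtain ⟨i, hi⟩ := Sys.exists_coroot_ne (F := F) hR hr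
  have hn : D.negIdx.getD r 0 ≠ r := hR.neg_ne hr
  have key : ∀ v : F, D.x F r v (Sum.inl i) (Sum.inr ⟨D.neg r, hR.neg_lt r hr⟩) =
      (((D.coroot.getD r #[]).getD i.val 0 : ℤ) : F) * v := fun v => by
    simp [ChevalleyDatum.x, hr, ChevalleyDatum.xMat, ChevalleyDatum.neg, Fin.ext_iff,
      -Array.getD_eq_getD_getElem?, hn]
  have e := congrArg (fun z => ((glSys hS).mat z) (Sum.inl i) (Sum.inr ⟨D.neg r, hR.neg_lt r hr⟩)) h
  simp only [(glSys hS).mat_x hr, key] at e
  exact mul_left_cancel₀ hi e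

/-- The centraliser statement. -/
theorem eq_one_of_commute (hR : RootTable D len) (hD : chainStepOK D = true) {χ : ℕ → Fˣ}
    (hχ : D.IsRootCharacter χ) {g : GL D.Idx F} (hg : g ∈ (glSys hS).Gbar)
    {w0 : List (Fin D.rank)} (hw0 : invSet D w0 = posSet D)
    {x x' : GL D.Idx F} (hx : RegPos hS hR x)
    (hx' : RegPos hS hR ((glSys hS).nW w0 * x' * ((glSys hS).nW w0)⁻¹))
    (hcx : Commute (g * charUnit D χ) x) (hcx' : Commute (g * charUnit D χ) x') :
    g * charUnit D χ = 1 := by
  set S := glSys hS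
  set n := S.nW w0
  set d := charUnit D χ
  obtain ⟨u, hu, h, hh, hgu⟩ := triangular_of_commute hS hR hD hχ hg hx hcx
  set t := h * d with htdef
  have htd : IsDiagOne t := isDiagOne_mul (isDiagOne_Hbar hS hR hh) (isDiagOne_charUnit χ)
  have hc : g * d = u * t := by rw [hgu, htdef, mul_assoc]
  have hd : ∀ s < D.nroots, ∀ t : F, d * S.x s t * d⁻¹ = S.x s ((χ s : F) * t) := fun s hs t =>
    charUnit_conj hS hD hχ hs t
  -- the conjugate by the longest element
  have hnG : n ∈ S.Gbar := S.Nbar_le_Gbar hS hR (S.nW_mem_Nbar w0)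
  have hnorm : ∀ z ∈ S.Gbar, d * z * d⁻¹ ∈ S.Gbar := by
    intro z hz
    refine Subgroup.closure_induction (p := fun z _ => d * z * d⁻¹ ∈ S.Gbar) ?_ ?_ ?_ ?_ hz
    · rintro _ ⟨r, hr, t, rfl⟩
      rw [hd r hr]
      exact S.x_mem_Gbar hr _
    · simp [one_mem]
    · intro a b _ _ ha hb
      simpa [mul_assoc] using mul_mem ha hb
    · intro a _ ha
      simpa [mul_assoc] using inv_mem ha
  have hc' : n * (g * d) * n⁻¹ = (n * g * (d * n⁻¹ * d⁻¹)) * d := by group
  have hg' : n * g * (d * n⁻¹ * d⁻¹) ∈ S.Gbar := mul_mem (mul_mem hnG hg) (hnorm _ (inv_mem hnG))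
  have hcc : Commute ((n * g * (d * n⁻¹ * d⁻¹)) * d) (n * x' * n⁻¹) := by
    rw [← hc']
    show n * (g * d) * n⁻¹ * (n * x' * n⁻¹) = n * x' * n⁻¹ * (n * (g * d) * n⁻¹)
    have := hcx'.eq
    calc n * (g * d) * n⁻¹ * (n * x' * n⁻¹) = n * ((g * d) * x') * n⁻¹ := by group
      _ = n * (x' * (g * d)) * n⁻¹ := by rw [this]
      _ = _ := by group
  obtain ⟨u', hu', h', hh', hgu'⟩ := triangular_of_commute hS hR hD hχ hg' hx' hcc
  set t' := h' * d with htdef'
  have htd' : IsDiagOne t' := isDiagOne_mul (isDiagOne_Hbar hS hR hh') (isDiagOne_charUnit χ)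
  have hcu' : n * g * (d * n⁻¹ * d⁻¹) * d = u' * t' := by rw [hgu', htdef', mul_assoc]
  -- `n u n⁻¹` is at the same time upper and lower triangular
  obtain ⟨f', hf'⟩ := htd'
  have htn := isDiagOne_conj hS hR (mon_nW hS hR w0) htd
  obtain ⟨f, hf⟩ := htn
  have hv : n * u * n⁻¹ ∈ S.Vbar := S.nW_conj_neg hS hR w0 (by rw [hw0]; exact hu)
  have eq : (n * u * n⁻¹) * (n * t * n⁻¹) = u' * t' := by
    rw [← hcu', ← hc', hc]
    group
  have hlow : Raise D len (-htHom D) 1 (S.mat (n * u * n⁻¹)) :=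
    S.raise_of_mem hR (fun _ h => h.1) (by norm_num)
      (fun r hr => by have := hR.negSet_closed.pos r hr; omega) hv
  have hf0 : ∀ c : D.Idx, Sum.elim (fun _ => (1 : F)) f c ≠ 0 := by
    intro c h0
    have hcol := congrFun (congrFun (Units.mul_inv (n * t * n⁻¹)⁻¹) c) c
    rw [Matrix.one_apply_eq, inv_inv, hf, Matrix.mul_diagonal, h0, mul_zero] at hcol
    exact zero_ne_one hcol
  have hv1 : S.mat (n * u * n⁻¹) = 1 := by
    ext a c
    by_contra hne
    have h1 := hlow a c hne
    have hac : a ≠ c := fun e => by subst e; omega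
    rw [Matrix.one_apply_ne hac] at hne
    have em := congrFun (congrFun (congrArg (fun z : GL D.Idx F => (z : Matrix D.Idx D.Idx F)) eq) a) c
    rw [Units.val_mul, Units.val_mul u', hf, hf', Matrix.mul_diagonal, Matrix.mul_diagonal] at em
    have h2 : (u' : Matrix D.Idx D.Idx F) a c ≠ 0 := by
      intro h0
      rw [h0, zero_mul] at em
      exact hne ((mul_eq_zero.1 em).resolve_right (hf0 c))
    have h3 := S.raise_Ubar hR hu' a c (by
      rw [glSys_mat, Matrix.one_apply_ne hac]
      exact h2)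
    rcases a with a | a <;> rcases c with c | c <;>
      simp only [degI, Sum.elim_inl, Sum.elim_inr, AddMonoidHom.neg_apply] at h1 h3 <;> omega
  have hu1 : u = 1 := by
    have h1 : n * u * n⁻¹ = 1 := Units.ext (by rw [← glSys_mat hS, hv1, Units.val_one])
    have := congrArg (fun z => n⁻¹ * z * n) h1
    simpa [mul_assoc] using this
  subst hu1
  rw [one_mul] at hgu
  subst g
  obtain ⟨ah, lah, hah, hch, hdiag, -⟩ := mon_Hbar hS hR hh
  -- the character is trivial
  have hconj : ∀ s < D.nroots, ∀ z : F, (h * d) * S.x s z * (h * d)⁻¹ = S.x s (ah s * (χ s : F) * z) := by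
    intro s hs z
    calc (h * d) * S.x s z * (h * d)⁻¹ = h * (d * S.x s z * d⁻¹) * h⁻¹ := by group
      _ = _ := by rw [hd s hs, hch s hs, act_nil, mul_assoc]
  have hsimp : ∀ i : Fin D.rank, ah (D.simple i) * (χ (D.simple i) : F) = 1 := by
    intro i
    have e := (S.simpleCoord_conj hR i hconj hx.1).2
    rw [hcx.eq, mul_inv_cancel_right] at e
    exact mul_right_cancel₀ (hx.2 i) (by rw [one_mul]; exact e.symm)
  have hneg : ∀ i : Fin D.rank, ah (D.neg (D.simple i)) * (χ (D.neg (D.simple i)) : F) = 1 := by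
    intro i
    have hp := hR.simple_lt i i.2
    have h2 := hsimp i
    rw [hχ.1 _ hp, Units.val_inv_eq_inv_val]
    have h3 := hah _ hp
    have hne : (χ (D.simple i) : F) ≠ 0 := Units.ne_zero _
    rw [mul_inv_eq_one₀ hne]
    exact mul_right_cancel₀ (left_ne_zero_of_mul_eq_one h2) (by rw [h3, mul_comm, h2])
  have hG : S.Gbar ≤ Subgroup.centralizer {h * d} := by
    refine Cfsg.Agent.Chev.Triality.Gbar_le_of_simple hS hR _ fun i z => ?_
    have hp := hR.simple_lt i i.2
    constructor <;> rw [Subgroup.mem_centralizer_singleton_iff]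
    · have := hconj _ hp z
      rw [hsimp i, one_mul] at this
      exact (mul_inv_eq_iff_eq_mul.1 this).symm
    · have := hconj _ (hR.neg_lt _ hp) z
      rw [hneg i, one_mul] at this
      exact (mul_inv_eq_iff_eq_mul.1 this).symm
  have hall : ∀ s < D.nroots, ah s * (χ s : F) = 1 := by
    intro s hs
    have e := hconj s hs 1
    rw [mul_one, ← Subgroup.mem_centralizer_singleton_iff.1 (hG (S.x_mem_Gbar hs 1)),
      mul_inv_cancel_right] at e
    exact (x_param_inj hS hR hs e).symm
  refine Units.ext ?_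
  rw [Units.val_one, Units.val_mul]
  ext a c
  rw [Matrix.mul_apply]
  rcases c with j | s
  · rw [Finset.sum_eq_single (Sum.inl j : D.Idx)]
    · obtain ⟨k, hk⟩ := isDiagOne_Hbar hS hR hh
      rw [hk]
      show _ * Matrix.diagonal _ _ _ = _
      by_cases ha : a = Sum.inl j
      · subst ha; simp [Matrix.one_apply]
      · simp [Matrix.one_apply, Matrix.diagonal_apply, ha]
    · intro b _ hb
      rw [show (d : Matrix D.Idx D.Idx F) = D.charDiag F χ from rfl, ChevalleyDatum.charDiag,
        Matrix.diagonal_apply_ne _ hb, mul_zero]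
    · simp
  · rw [Finset.sum_eq_single (Sum.inr s : D.Idx)]
    · rw [hdiag, show (d : Matrix D.Idx D.Idx F) = D.charDiag F χ from rfl, ChevalleyDatum.charDiag,
        Matrix.diagonal_apply_eq]
      simp only [act_nil, Fin.eta, Sum.elim_inr, Matrix.one_apply]
      by_cases ha : a = Sum.inr s
      · subst ha; simp [hall s s.2]
      · simp [ha]
    · intro b _ hb
      rw [show (d : Matrix D.Idx D.Idx F) = D.charDiag F χ from rfl, ChevalleyDatum.charDiag,
        Matrix.diagonal_apply_ne _ hb, mul_zero]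
    · simp

end Cfsg.Agent.SubTw
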